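import Groth.Agent.ProjFinite.ClosedSub
import Groth.Agent.CohFinite.Devissage
import Groth.Agent.ProjCoord.Extra

/-!
# Finiteness of the cohomology of coherent modules on projective space
-/

noncomputable section

universe u

open CategoryTheory AlgebraicGeometry CohB1
open Groth.Agent.ProjCoord

namespace Groth.Agent.ProjFinite

variable {n : ℕ} {R : Type u} [CommRing R]

instance isProper_toSpec : IsProper (ProjSpace.toSpec n R) := isProper_baseMap (n := n) (R := R)

lemma isNoetherian_projSpace [IsNoetherianRing R] : AlgebraicGeometry.IsNoetherian (ProjSpace n R) := by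
  haveI := LocallyOfFiniteType.isLocallyNoetherian (ProjSpace.toSpec n R)
  haveI : CompactSpace (ProjSpace n R) :=
    QuasiCompact.compactSpace_of_compactSpace (ProjSpace.toSpec n R)
  exact { }

/-- Coherent modules on projective space have finite cohomology. -/
theorem finite_HH [IsNoetherianRing R] (M : (ProjSpace n R).Modules) (hM : Coh.IsCoh M) (p : ℕ) :
    Module.Finite R (Coh.HH (ProjSpace n R) M p) := by
  haveI := isNoetherian_projSpace (n := n) (R := R)
  exact CohFinite.finite_of_integral (fun _ i hi _ _ q => haveI := hi; finite_HH_push i q) M hM p

end Groth.Agent.ProjFinite
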