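import Groth.Agent.ProjFinite.Ideal
import Groth.Agent.QCohBase.Qcqs

/-!
# Finiteness of the cohomology of the structure sheaf of a closed subscheme of projective space
-/

noncomputable section

universe u

open CategoryTheory AlgebraicGeometry MvPolynomial Opposite CohB1 HomogeneousLocalization
open Groth.Agent.QCohBase Groth.Agent.ProjCoord Groth.Agent.CechSys

namespace Groth.Agent.ProjFinite

variable {n : ℕ} {R : Type u} [CommRing R] {W : Scheme.{u}} (f : W ⟶ ProjSpace n R)

/-- Restriction of functions to a closed subscheme, as a map of abelian presheaves. -/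
def restrictMap : strPre n R ⟶ (Coh.toAb ((Coh.push f).obj (Coh.structureModule W))).obj where
  app V := AddCommGrpCat.ofHom (f.app V.unop).hom.toAddMonoidHom
  naturality U V g := by
    ext x
    exact ConcreteCategory.congr_hom (f.naturality g) x

lemma app_res {U V : (ProjSpace n R).Opens} (h : V ≤ U) (x : Γ(ProjSpace n R, U)) :
    f.app V (((ProjSpace n R).presheaf.map (homOfLE h).op).hom x) =
      W.presheaf.map (homOfLE (f.preimage_mono h)).op (f.app U x) :=
  ConcreteCategory.congr_hom (f.naturality (homOfLE h).op) x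

/-- The ideal of a closed subscheme in the Laurent polynomials. -/
def kerSys {p : ℕ} (i : Fin (p + 1) → Idx.{u} n) : Submodule R (LW R n 1) where
  carrier := {v | ∃ s, f.app (inter (cov n R) i) s = 0 ∧ secHom R i s = v}
  add_mem' := by
    rintro _ _ ⟨s, hs, rfl⟩ ⟨t, ht, rfl⟩
    exact ⟨s + t, by rw [map_add, hs, ht, add_zero], map_add _ _ _⟩
  zero_mem' := ⟨0, map_zero _, map_zero _⟩
  smul_mem' := by
    rintro r _ ⟨s, hs, rfl⟩
    refine ⟨toSec i (constR R i r) * s, by rw [map_mul, hs, mul_zero], ?_⟩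
    obtain ⟨z, rfl⟩ := (toSec_bijective i).2 s
    rw [← map_mul (toSec i), secHom_toSec, secHom_toSec, map_mul, eps_constR, ← map_smul, Algebra.smul_def]
    rfl

lemma mem_kerSys {p : ℕ} {i : Fin (p + 1) → Idx.{u} n} {v : LW R n 1} :
    v ∈ kerSys f i ↔ ∃ s, f.app (inter (cov n R) i) s = 0 ∧ secHom R i s = v := Iff.rfl

lemma shift_mem_kerSys {p : ℕ} {i : Fin (p + 1) → Idx.{u} n} {v : LW R n 1} (d : Expo n)
    (hd : ∑ j, d j = 0) (hn : CechSys.neg d ⊆ Set.range i) (hv : v ∈ kerSys f i) :
    shift R d v ∈ kerSys f i := by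
  obtain ⟨s, hs, rfl⟩ := hv
  obtain ⟨t, ht⟩ := exists_secHom_single (R := R) i d hd hn
  exact ⟨s * t, by rw [map_mul, hs, zero_mul], secHom_mul i s t d ht⟩

lemma res_mem_kerSys {p q : ℕ} {i : Fin (q + 1) → Idx.{u} n} (φ : Fin (p + 1) → Fin (q + 1))
    (hφ : Function.Injective φ) {v : LW R n 1} (hv : v ∈ kerSys f (i ∘ φ)) : v ∈ kerSys f i := by
  obtain ⟨s, hs, rfl⟩ := hv
  refine ⟨((ProjSpace n R).presheaf.map (homOfLE (inter_comp_le (cov n R) i φ)).op).hom s, ?_,
    secHom_resOfInjective i φ hφ _ s⟩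
  rw [app_res, hs, map_zero]

/-- The homogeneous ideal of a closed subscheme. -/
def gradedIdeal : Submodule R (LW R n 1) :=
  Finsupp.supported R R {x | ∀ j, 0 ≤ x.down.2 j} ⊓ ⨅ (e : ℤ), ⨅ (j : Idx.{u} n),
    (kerSys f ![j]).comap ((shift R (-(Pi.single j.down e))).comp (degPart R (fun _ => 0) e))

lemma mem_gradedIdeal {v : LW R n 1} :
    v ∈ gradedIdeal f ↔ (∀ x ∈ v.support, ∀ j, 0 ≤ x.down.2 j) ∧
      ∀ (e : ℤ) (j : Idx.{u} n),
        shift R (-(Pi.single j.down e)) (degPart R (fun _ => 0) e v) ∈ kerSys f ![j] := by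
  simp [gradedIdeal, Finsupp.mem_supported, Submodule.mem_iInf, Set.subset_def]

lemma degPart_shift (e : ℤ) (c : Expo n) (v : LW R n 1) :
    degPart R (fun _ => 0) e (shift R c v) = shift R c (degPart R (fun _ => 0) (e - ∑ j, c j) v) := by
  induction v using Finsupp.induction_linear with
  | zero => simp
  | add a b ha hb => simp only [map_add, ha, hb]
  | single x z =>
    classical
    obtain ⟨⟨k, a⟩⟩ := x
    rw [shift_single]
    simp only [degPart, LinearMap.coe_mk, AddHom.coe_mk]
    by_cases h : (∑ j, a j) = e - ∑ j, c j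
    · rw [Finsupp.filter_single_of_pos _ (by simp [CechSys.deg, Finset.sum_add_distrib]; omega),
        Finsupp.filter_single_of_pos _ (by simp [CechSys.deg]; omega), shift_single]
    · rw [Finsupp.filter_single_of_neg _ (by simp [CechSys.deg, Finset.sum_add_distrib]; omega),
        Finsupp.filter_single_of_neg _ (by simp [CechSys.deg]; omega), map_zero]

lemma neg_subset {c : Expo n} {I : Set (Idx.{u} n)} (h : ∀ l : Idx.{u} n, l ∉ I → 0 ≤ c l.down) :
    CechSys.neg c ⊆ I := fun l hl => by
  by_contra hne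
  exact absurd (show c l.down < 0 from hl) (not_lt.2 (h l hne))

lemma single_apply_zero {j : Idx.{u} n} {l : Idx.{u} n} (h : l ∉ Set.range ![j]) (z : ℤ) :
    (Pi.single j.down z : Expo n) l.down = 0 :=
  by rw [Pi.single_eq_of_ne]; exact fun e => h ⟨0, show j = l from ULift.ext _ _ e.symm⟩

lemma sum_chartExp {p : ℕ} (i : Fin (p + 1) → Idx.{u} n) (j : Idx.{u} n) (k : ℕ) :
    ∑ l, (k • (tupExp i - (p + 1) • unitVec n j.down)) l = 0 := by
  simp only [Pi.smul_apply, Pi.sub_apply, smul_sub, Finset.sum_sub_distrib, ← Finset.smul_sum,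
    sum_tupExp, unitVec, Finset.univ_sum_single, Finset.sum_pi_single', Finset.mem_univ, if_true]
  simp

lemma shift_mem_gradedIdeal {c : Expo n} (hc : ∀ j, 0 ≤ c j) {v : LW R n 1}
    (hv : v ∈ gradedIdeal f) : shift R c v ∈ gradedIdeal f := by
  rw [mem_gradedIdeal] at hv ⊢
  refine ⟨fun x hx j => ?_, fun e j => ?_⟩
  · obtain ⟨y, hy, rfl⟩ := mem_support_shift hx
    exact add_nonneg (hv.1 y hy j) (hc j)
  · have h := shift_mem_kerSys f (c - Pi.single j.down (∑ i, c i))
      (by simp [Finset.sum_sub_distrib])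
      (neg_subset fun l hl => by simp [single_apply_zero hl, hc l.down])
      (hv.2 (e - ∑ i, c i) j)
    rw [degPart_shift, shift_shift]
    rw [shift_shift] at h
    convert h using 3
    rw [Pi.single_sub]
    abel

lemma degPart_mem_gradedIdeal (e : ℤ) {v : LW R n 1} (hv : v ∈ gradedIdeal f) :
    degPart R (fun _ => 0) e v ∈ gradedIdeal f := by
  classical
  rw [mem_gradedIdeal] at hv ⊢
  refine ⟨fun x hx => hv.1 x ?_, fun e' j => ?_⟩
  · simp only [degPart, LinearMap.coe_mk, AddHom.coe_mk, Finsupp.support_filter,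
      Finset.mem_filter] at hx
    exact hx.1
  · rcases eq_or_ne e' e with rfl | h
    · have : degPart R (fun _ => 0) e' (degPart R (fun _ => 0) e' v) =
          degPart R (fun _ : Fin 1 => 0) e' v := by
        ext x; simp [degPart, Finsupp.filter_apply]; intro h1 h2; exact absurd h2 h1
      rw [this]
      exact hv.2 e' j
    · have : degPart R (fun _ => 0) e' (degPart R (fun _ : Fin 1 => 0) e v) = 0 := by
        ext x
        simp only [degPart, LinearMap.coe_mk, AddHom.coe_mk, Finsupp.filter_apply, Finsupp.coe_zero,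
          Pi.zero_apply]
        split_ifs with h1 h2 <;> first | rfl | exact absurd (by omega : e' = e) h
      rw [this, map_zero]
      exact Submodule.zero_mem _

lemma iSup_inter_cons {p : ℕ} (i : Fin (p + 1) → Idx.{u} n) :
    inter (cov n R) i ≤ ⨆ j : Idx.{u} n, inter (cov n R) (Fin.cons j i) := fun x hx => by
  obtain ⟨j, hj⟩ := TopologicalSpace.Opens.mem_iSup.1 ((iSup_cov (n := n) (R := R)).ge (Set.mem_univ x))
  exact TopologicalSpace.Opens.mem_iSup.2 ⟨j, (mem_inter_iff _ _ _).2 (Fin.cases hj fun a =>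
    (mem_inter_iff _ _ _).1 hx a)⟩

lemma mem_kerSys_of_gradedIdeal {p : ℕ} (i : Fin (p + 1) → Idx.{u} n) {v : LW R n 1}
    (hv : v ∈ Free R (fun _ : Fin 1 => 0) 0 (Set.range i)) {c : Expo n} (hc : ∀ j, 0 ≤ c j)
    (hcI : ∀ j : Idx.{u} n, j ∉ Set.range i → c j.down = 0) (h : shift R c v ∈ gradedIdeal f) :
    v ∈ kerSys f i := by
  obtain ⟨s, hs⟩ := (mem_range_secHom i).2 hv
  refine ⟨s, ?_, hs⟩
  have hdeg : degPart R (fun _ => 0) (∑ j, c j) (shift R c v) = shift R c v := by
    rw [degPart_shift, sub_self, degPart_eq_self hv]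
  refine W.sheaf.eq_of_locally_eq' (fun j => f ⁻¹ᵁ inter (cov n R) (Fin.cons j i)) _
    (fun j => homOfLE (f.preimage_mono (le_iInf fun a => iInf_le_of_le a.succ (by simp))))
    (fun x hx => ?_) _ _ fun j => ?_
  · obtain ⟨j, hj⟩ := TopologicalSpace.Opens.mem_iSup.1 (iSup_inter_cons i (show f x ∈ _ from hx))
    exact TopologicalSpace.Opens.mem_iSup.2 ⟨j, hj⟩
  · refine Eq.trans ?_ (map_zero _).symm
    have h1 := ((mem_gradedIdeal f).1 h).2 (∑ i, c i) j
    rw [hdeg, shift_shift] at h1
    have hj : (Fin.cons j i : Fin (p + 2) → Idx.{u} n) ∘ (fun _ : Fin 1 => (0 : Fin (p + 2))) = ![j] := by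
      funext a; fin_cases a; rfl
    rw [← hj] at h1
    have h2 : v ∈ kerSys f (Fin.cons j i : Fin (p + 2) → Idx.{u} n) := by
      have h3 := shift_mem_kerSys f (Pi.single j.down (∑ i, c i) - c)
        (by simp [Finset.sum_sub_distrib])
        (neg_subset fun l hl => by
          have hl' : l ∉ Set.range i := fun ⟨a, ha⟩ => hl ⟨a.succ, by simp [ha]⟩
          have hl'' : l ∉ Set.range ![j] := fun ⟨a, ha⟩ => hl ⟨0, by fin_cases a; simpa using ha⟩
          simp [single_apply_zero hl'', hcI l hl'])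
        (res_mem_kerSys f _ (fun a b _ => Subsingleton.elim (α := Fin 1) a b) h1)
      rw [shift_shift] at h3
      rwa [show c + -Pi.single j.down (∑ i, c i) + (Pi.single j.down (∑ i, c i) - c) = 0 by abel,
        shift_zero] at h3
    obtain ⟨t, ht0, ht⟩ := h2
    have hi : (Fin.cons j i : Fin (p + 2) → Idx.{u} n) ∘ Fin.succ = i := by funext a; simp
    have key : ∀ (i₀ : Fin (p + 1) → Idx.{u} n) (e : (Fin.cons j i : Fin (p + 2) → Idx.{u} n) ∘ Fin.succ = i₀)
        (s₀ : Γ(ProjSpace n R, inter (cov n R) i₀)) (h : inter (cov n R) (Fin.cons j i) ≤ inter (cov n R) i₀),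
        secHom R i₀ s₀ = v → W.presheaf.map (homOfLE (f.preimage_mono h)).op (f.app _ s₀) = 0 := by
      rintro _ rfl s₀ h hs₀
      rw [← app_res f h, secHom_injective _ ((secHom_resOfInjective _ Fin.succ (Fin.succ_injective _) h s₀).trans
        (hs₀.trans ht.symm)), ht0]
    exact key i hi s (le_iInf fun a => iInf_le_of_le a.succ (by simp)) hs

lemma exists_pow_mem_gradedIdeal [IsClosedImmersion f] {p : ℕ} (i : Fin (p + 1) → Idx.{u} n)
    {v : LW R n 1} (hv : v ∈ kerSys f i) :
    ∃ c : Expo n, (∀ j, 0 ≤ c j) ∧ (∀ j : Idx.{u} n, j ∉ Set.range i → c j.down = 0) ∧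
      shift R c v ∈ gradedIdeal f := by
  classical
  obtain ⟨s, hs0, hs⟩ := hv
  have hv : v ∈ Free R (fun _ : Fin 1 => 0) 0 (Set.range i) := hs ▸ secHom_mem i s
  let k₀ : ℕ := v.support.sup fun x => Finset.univ.sup fun j => (-x.down.2 j).toNat
  have hpos : ∀ k, k₀ ≤ k → ∀ x ∈ v.support, ∀ j, 0 ≤ x.down.2 j + (k : ℤ) * tupExp i j := by
    intro k hk x hx j
    by_cases hj : (⟨j⟩ : Idx.{u} n) ∈ Set.range i
    · have h1 := tupExp_apply_pos i hj
      have h2 : (-x.down.2 j).toNat ≤ k := le_trans (le_trans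
        (Finset.le_sup (f := fun j => (-x.down.2 j).toNat) (Finset.mem_univ j))
        (Finset.le_sup (f := fun x : Mon.{u} n 1 => Finset.univ.sup fun j => (-x.down.2 j).toNat) hx)) hk
      have h3 : (k : ℤ) * 1 ≤ k * tupExp i j := mul_le_mul_of_nonneg_left h1 (Int.natCast_nonneg k)
      omega
    · have h1 : ¬ x.down.2 j < 0 := fun h =>
        hj ((mem_Free.1 hv x hx).1 (show (⟨j⟩ : Idx.{u} n) ∈ CechSys.neg x.down.2 from h))
      rw [tupExp_apply_zero i hj]
      omega
  have hchart : ∀ (j : Idx.{u} n) (k : ℕ), k₀ ≤ k →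
      shift R (k • (tupExp i - (p + 1) • unitVec n j.down)) v ∈ Free R (fun _ : Fin 1 => 0) 0 (Set.range ![j]) := by
    intro j k hk
    refine mem_Free.2 fun x hx => ?_
    obtain ⟨y, hy, rfl⟩ := mem_support_shift hx
    refine ⟨fun l hl => ?_, ?_⟩
    · by_contra hne
      have := hpos k hk y hy l.down
      change (y.down.2 + k • (tupExp i - (p + 1) • (Pi.single j.down 1 : Expo n))) l.down < 0 at hl
      simp only [Pi.add_apply, Pi.smul_apply, Pi.sub_apply, single_apply_zero hne, smul_zero, sub_zero] at hl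
      rw [nsmul_eq_mul] at hl
      omega
    · have h1 := (mem_Free.1 hv y hy).2
      simp only [CechSys.deg, add_zero] at h1 ⊢
      simp only [Pi.add_apply, Finset.sum_add_distrib]
      rw [h1, sum_chartExp, zero_add]
  have hex : ∀ j : Idx.{u} n, ∃ m : ℕ,
      shift R ((k₀ + m) • (tupExp i - (p + 1) • unitVec n j.down)) v ∈ kerSys f ![j] := by
    intro j
    let d : Expo n := tupExp i - (p + 1) • unitVec n j.down
    obtain ⟨a, ha⟩ := (mem_range_secHom ![j]).2 (hchart j k₀ le_rfl)
    obtain ⟨g, hg, hgle⟩ := exists_basicOpen_le (R := R) i j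
    let U := inter (cov n R) ![j]
    let B := (ProjSpace n R).basicOpen g
    have hU : IsAffineOpen (f ⁻¹ᵁ U) := (isAffineOpen_inter ![j]).preimage f
    have hBW : W.basicOpen (f.app U g) ≤ f ⁻¹ᵁ B := (f.preimage_basicOpen (U := U) g).ge
    haveI := hU.isLocalization_basicOpen (f.app U g)
    have hB : B ≤ inter (cov n R) (Fin.cons j i) := le_iInf
      (Fin.cases (le_trans ((ProjSpace n R).basicOpen_le g) (iInf_le_of_le 0 (by simp)))
        fun a => le_trans hgle (iInf_le_of_le a (by simp)))
    have hz : algebraMap Γ(W, f ⁻¹ᵁ U) Γ(W, W.basicOpen (f.app U g)) (f.app U a) = 0 := by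
      have hker : secHom R ![j] a ∈ kerSys f (Fin.cons j i : Fin (p + 2) → Idx.{u} n) := by
        rw [ha]
        refine shift_mem_kerSys f _ ?_ ?_ (res_mem_kerSys f Fin.succ (Fin.succ_injective _) ?_)
        · exact sum_chartExp i j k₀
        · refine neg_subset fun l hl => ?_
          have hl' : l ∉ Set.range i := fun ⟨b, hb⟩ => hl ⟨b.succ, by simp [hb]⟩
          have hl'' : l ∉ Set.range ![j] := fun ⟨b, hb⟩ => hl ⟨0, by fin_cases b; simpa using hb⟩
          simp [unitVec, tupExp_apply_zero i hl', single_apply_zero hl'']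
        · have e : (Fin.cons j i : Fin (p + 2) → Idx.{u} n) ∘ Fin.succ = i := by funext b; simp
          rw [e]
          exact ⟨s, hs0, hs⟩
      obtain ⟨t, ht0, ht⟩ := hker
      have hj : (Fin.cons j i : Fin (p + 2) → Idx.{u} n) ∘ (fun _ : Fin 1 => (0 : Fin (p + 2))) = ![j] := by
        funext b; fin_cases b; rfl
      have key : ∀ (i₀ : Fin 1 → Idx.{u} n) (e : (Fin.cons j i : Fin (p + 2) → Idx.{u} n) ∘ (fun _ : Fin 1 => (0 : Fin (p + 2))) = i₀)
          (a₀ : Γ(ProjSpace n R, inter (cov n R) i₀)) (h : inter (cov n R) (Fin.cons j i) ≤ inter (cov n R) i₀),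
          secHom R i₀ a₀ = secHom R (Fin.cons j i : Fin (p + 2) → Idx.{u} n) t →
            W.presheaf.map (homOfLE (f.preimage_mono h)).op (f.app _ a₀) = 0 := by
        rintro _ rfl a₀ h h0
        rw [← app_res f h, secHom_injective _ ((secHom_resOfInjective _ _ (fun a b _ => Subsingleton.elim (α := Fin 1) a b) h a₀).trans h0),
          ht0]
      have hle : inter (cov n R) (Fin.cons j i) ≤ U := le_iInf fun b => iInf_le_of_le 0 (by fin_cases b; exact le_rfl)
      have h1 := congrArg (W.presheaf.map (homOfLE (hBW.trans (f.preimage_mono hB))).op)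
        (key ![j] hj a hle ht.symm)
      rw [map_zero] at h1
      erw [← ConcreteCategory.comp_apply, ← Functor.map_comp] at h1
      rw [RingHom.algebraMap_toAlgebra]
      exact h1
    obtain ⟨⟨c, m, rfl⟩, hm⟩ := (IsLocalization.map_eq_zero_iff (Submonoid.powers (f.app U g))
      Γ(W, W.basicOpen (f.app U g)) (f.app U a)).1 hz
    refine ⟨m, a * g ^ m, ?_, ?_⟩
    · rw [map_mul, map_pow, mul_comm]
      exact hm
    · rw [secHom_mul ![j] a (g ^ m) (m • d) (secHom_pow ![j] g d hg m), ha, shift_shift, show (m • d : Expo n) = m • (tupExp i - (p + 1) • unitVec n j.down) from rfl,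
        ← add_smul]
  choose m hm using hex
  let k : ℕ := k₀ + Finset.univ.sup m
  refine ⟨k • tupExp i, fun j => ?_, fun j hj => by simp [tupExp_apply_zero i hj], ?_⟩
  · by_cases hj : (⟨j⟩ : Idx.{u} n) ∈ Set.range i
    · have := tupExp_apply_pos i hj
      simp only [Pi.smul_apply, nsmul_eq_mul]
      positivity
    · simp [tupExp_apply_zero i hj]
  · rw [mem_gradedIdeal]
    refine ⟨fun x hx j => ?_, fun e j => ?_⟩
    · obtain ⟨y, hy, rfl⟩ := mem_support_shift hx
      have := hpos k (Nat.le_add_right _ _) y hy j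
      simpa using this
    · rcases eq_or_ne e ((k * (p + 1) : ℕ) : ℤ) with rfl | he
      · rw [degPart_shift, show ((k * (p + 1) : ℕ) : ℤ) - ∑ j, (k • tupExp i) j = 0 by
            simp [← Finset.mul_sum, sum_tupExp], degPart_eq_self hv, shift_shift]
        have hle : m j ≤ Finset.univ.sup m := Finset.le_sup (Finset.mem_univ j)
        have h := shift_mem_kerSys f ((Finset.univ.sup m - m j) • (tupExp i - (p + 1) • unitVec n j.down))
          (sum_chartExp i j _)
          (neg_subset fun l hl => by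
            by_cases hli : l ∈ Set.range i
            · have := tupExp_apply_pos i hli
              simp [unitVec, single_apply_zero hl]
              exact mul_nonneg (Int.natCast_nonneg _) (le_trans zero_le_one this)
            · simp [unitVec, single_apply_zero hl, tupExp_apply_zero i hli])
          (hm j)
        rw [shift_shift, ← add_smul, show k₀ + m j + (Finset.univ.sup m - m j) = k by omega] at h
        convert h using 3
        funext l
        simp [unitVec, Pi.single_apply]
        split_ifs <;> ring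
      · rw [degPart_shift, degPart_eq_zero (fun h => he ?_) hv, map_zero, map_zero]
        · exact Submodule.zero_mem _
        · simp [← Finset.mul_sum, sum_tupExp] at h ⊢
          omega

/-- The Cech cohomology of the structure sheaf of a closed subscheme is finite. -/
theorem finite_HH_push [IsNoetherianRing R] [IsClosedImmersion f] (p : ℕ) :
    Module.Finite R (Coh.HH (ProjSpace n R) ((Coh.push f).obj (Coh.structureModule W)) p) := by
  classical
  let M := (Coh.push f).obj (Coh.structureModule W)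
  haveI : (Coh.structureModule W).IsQuasicoherent := Groth.Agent.TensorMod.isQCoh_structureModule _
  haveI : Coh.IsQCoh M := Groth.Agent.QCohBase.isQuasicoherent_pushforward _ f
  obtain ⟨r', d', Ψ, hΨ⟩ := exists_hom_of_stable (fun _ : Fin 1 => (0 : ℤ)) (gradedIdeal f)
    (fun c hc v hv => shift_mem_gradedIdeal f hc hv) (fun e v hv => degPart_mem_gradedIdeal f e hv)
    (fun v hv => ((mem_gradedIdeal f).1 hv).1)
  have hK : ∀ {q : ℕ} (i : Fin (q + 1) → Idx.{u} n) (v : LW R n 1),
      v ∈ Ψ.img 0 (Set.range i) ↔ v ∈ kerSys f i := fun i v => by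
    rw [hΨ]
    refine ⟨fun ⟨hv, c, hc, hcI, h⟩ => mem_kerSys_of_gradedIdeal f i hv hc hcI h, fun h => ⟨?_, ?_⟩⟩
    · obtain ⟨s, -, rfl⟩ := h
      exact secHom_mem i s
    · exact exists_pow_mem_gradedIdeal f i h
  obtain ⟨F, hFfg, hFC, hF⟩ := finQ_img Ψ 0 p
  haveI : Module.Finite R F := Module.Finite.iff_fg.2 hFfg
  let ρ := restrictMap f
  choose pre hpre using fun (x : F) i => (mem_range_secHom i).2 (mem_C.1 (hFC x.2) i)
  let θ : F →+ cochain (cov n R) (Coh.toAb M).obj (Fin (p + 1)) :=
    { toFun := fun x i => ρ.app (op (inter (cov n R) i)) (pre x i)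
      map_zero' := funext fun i => by
        rw [show pre 0 i = 0 from secHom_injective i ((hpre 0 i).trans (map_zero (secHom R i)).symm)]
        exact map_zero _
      map_add' := fun x y => funext fun i => by
        rw [show pre (x + y) i = pre x i + pre y i from secHom_injective i (((hpre _ i).trans
          (congrArg₂ (· + ·) (hpre x i).symm (hpre y i).symm)).trans (map_add (secHom R i) _ _).symm)]
        exact map_add _ _ _ }
  refine CechLinear.finite_HH_of_cech (cov n R) M iSup_cov (fun _ i => isAffineOpen_inter i) p θ ?_ ?_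
  · intro a x
    funext i
    show ρ.app _ (pre (a • x) i) = _
    rw [show pre (a • x) i = CechLinear.smulCoch (cov n R) (Coh.structureModule (ProjSpace n R)) a (pre x) i
      from secHom_injective i ((hpre _ i).trans (by
        rw [show secHom R i _ = _ from congrFun (secCoch_smulCoch a (pre x)) i]
        show _ = a • secHom R i (pre x i)
        rw [hpre]
        rfl))]
    exact map_mul (f.app (inter (cov n R) i)).hom _ _
  · intro s hs
    obtain ⟨t, ht⟩ : ∃ t : cochain (cov n R) (strPre n R) (Fin (p + 1)),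
        ∀ i, f.app (inter (cov n R) i) (t i) = s i :=
      Classical.axiomOfChoice fun i => f.app_surjective (inter (cov n R) i) (isAffineOpen_inter i) (s i)
    have hst : s = fun i => ρ.app (op (inter (cov n R) i)) (t i) := funext fun i => (ht i).symm
    have h1 : secCoch n R p t ∈ C (Free R (fun _ : Fin 1 => 0) 0) p ⊓
        (C (Ψ.img 0) (p + 1)).comap (dd R (Idx.{u} n) (LW R n 1) p) := by
      refine ⟨secCoch_mem t, ?_⟩
      refine Submodule.mem_comap.2 ?_
      rw [← secCoch_dCech]
      refine mem_C.2 fun i => (hK i _).2 ⟨_, ?_, rfl⟩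
      have h := congrFun (dCech_map (cov n R) ρ p t) i
      rw [← hst, hs] at h
      exact h.symm
    obtain ⟨y, hy, k, hk, hsum⟩ := Submodule.mem_sup.1 (hF h1)
    obtain ⟨x, hx, b, hb, rfl⟩ := Submodule.mem_sup.1 hy
    obtain ⟨w, hw⟩ : ∃ w : cochain (cov n R) (strPre n R) (Fin (p + 1)),
        ∀ i, f.app (inter (cov n R) i) (w i) = 0 ∧ secHom R i (w i) = k i :=
      Classical.axiomOfChoice fun i => (hK i _).1 (mem_C.1 hk i)
    obtain ⟨hw0, hw⟩ : (∀ i, f.app (inter (cov n R) i) (w i) = 0) ∧ ∀ i, secHom R i (w i) = k i :=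
      ⟨fun i => (hw i).1, fun i => (hw i).2⟩
    let x' : cochain (cov n R) (strPre n R) (Fin (p + 1)) := pre ⟨x, hx⟩
    have hw' : secCoch n R p w = k := funext hw
    have hx' : secCoch n R p x' = x := funext (hpre ⟨x, hx⟩)
    have hs' : ∀ i, ρ.app (op (inter (cov n R) i)) (w i) = 0 := hw0
    cases p with
    | zero =>
      refine ⟨⟨x, hx⟩, Or.inl ?_⟩
      have e : t = x' + w := secCoch_injective (by
        rw [map_add, hx', hw', ← hsum, (Submodule.mem_bot R).1 hb, add_zero])
      rw [hst, e]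
      funext i
      refine (map_add (ρ.app _).hom _ _).trans ?_
      rw [show (ρ.app (op (inter (cov n R) i))).hom (w i) = 0 from hs' i, add_zero]
      rfl
    | succ q =>
      obtain ⟨u, hu, rfl⟩ := hb
      obtain ⟨u', rfl⟩ := exists_secCoch_eq hu
      refine ⟨⟨x, hx⟩, Or.inr ⟨q, rfl, fun i => ρ.app _ (u' i), ?_⟩⟩
      have e : t = x' + dCech (cov n R) (strPre n R) q u' + w := secCoch_injective (by
        rw [map_add, map_add, hx', hw', secCoch_dCech, hsum])
      rw [hst, e]
      show _ = θ ⟨x, hx⟩ + dCech _ _ q _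
      rw [dCech_map]
      funext i
      refine (map_add (ρ.app _).hom _ _).trans ?_
      rw [show (ρ.app (op (inter (cov n R) i))).hom (w i) = 0 from hs' i, add_zero]
      exact map_add (ρ.app _).hom _ _

end Groth.Agent.ProjFinite
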