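import Groth.Agent.ProjFinite.Sections

/-!
# Restrictions and products of sections of projective space on chart intersections
-/

noncomputable section

universe u

open CategoryTheory AlgebraicGeometry MvPolynomial Opposite CohB1 HomogeneousLocalization
open Groth.Agent.QCohBase Groth.Agent.ProjCoord Groth.Agent.CechSys

namespace Groth.Agent.ProjFinite

variable {n : ℕ} {R : Type u} [CommRing R]

section

variable {p : ℕ} (i : Fin (p + 1) → Idx.{u} n)

variable (R) in
/-- Sections as Laurent polynomials. -/
def secL : Γ(ProjSpace n R, inter (cov n R) i) →+* Lau n R :=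
  (eps R i).comp (RingEquiv.ofBijective (toSec (R := R) i) (toSec_bijective i)).symm.toRingHom

lemma secHom_eq (s : Γ(ProjSpace n R, inter (cov n R) i)) :
    secHom R i s = toW n R (secL R i s) := rfl

lemma toW_mul_single (x : Lau n R) (d : Expo n) :
    toW n R (x * AddMonoidAlgebra.single d 1) = shift R d (toW n R x) := by
  induction x using AddMonoidAlgebra.induction_linear with
  | zero => simp
  | add a b ha hb => simp only [add_mul, map_add, ha, hb]
  | single a z => rw [AddMonoidAlgebra.single_mul_single, mul_one, toW_single, toW_single, shift_single]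

lemma secHom_mul (s t : Γ(ProjSpace n R, inter (cov n R) i)) (d : Expo n)
    (ht : secHom R i t = Finsupp.single (mk 0 d) 1) :
    secHom R i (s * t) = shift R d (secHom R i s) := by
  have h : secL R i t = AddMonoidAlgebra.single d 1 :=
    (toW n R).injective (((secHom_eq i t).symm.trans ht).trans (toW_single d 1).symm)
  rw [secHom_eq, secHom_eq, map_mul, h, toW_mul_single]

lemma secHom_one : secHom R i 1 = Finsupp.single (mk 0 0) 1 := by
  rw [secHom_eq, map_one, AddMonoidAlgebra.one_def, toW_single]

lemma secHom_pow (t : Γ(ProjSpace n R, inter (cov n R) i)) (d : Expo n)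
    (ht : secHom R i t = Finsupp.single (mk 0 d) 1) (m : ℕ) :
    secHom R i (t ^ m) = Finsupp.single (mk 0 (m • d)) 1 := by
  induction m with
  | zero => rw [pow_zero, zero_smul, secHom_one]
  | succ m ih => rw [pow_succ, secHom_mul i _ t d ht, ih, shift_single, succ_nsmul]

lemma exists_secHom_single (d : Expo n) (hd : ∑ j, d j = 0) (hn : CechSys.neg d ⊆ Set.range i) :
    ∃ t, secHom R i t = Finsupp.single (mk 0 d) 1 :=
  (mem_range_secHom i).2 (Finsupp.single_mem_supported R _ ⟨hn, by simp [CechSys.deg, hd]⟩)

end

/-- Restriction along an injective map of tuples. -/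
lemma secHom_resOfInjective {p q : ℕ} (i : Fin (q + 1) → Idx.{u} n) (φ : Fin (p + 1) → Fin (q + 1))
    (hφ : Function.Injective φ) (h : inter (cov n R) i ≤ inter (cov n R) (i ∘ φ))
    (s : Γ(ProjSpace n R, inter (cov n R) (i ∘ φ))) :
    secHom R i (((ProjSpace n R).presheaf.map (homOfLE h).op).hom s) = secHom R (i ∘ φ) s := by
  classical
  obtain ⟨z, rfl⟩ := (toSec_bijective (i ∘ φ)).2 s
  let S : Finset (Fin (q + 1)) := Finset.univ \ Finset.univ.image φ
  let g : MvPolynomial (Fin (n + 1)) R := ∏ a ∈ S, X (i a).down
  have hg : g ∈ polyGrading n R S.card := by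
    have := SetLike.prod_mem_graded (A := polyGrading n R) (F := S) (fun _ => 1)
      (fun a => (X (i a).down : MvPolynomial (Fin (n + 1)) R)) fun a _ => X_mem (i a).down
    simpa [g] using this
  have hx : prodX R i = prodX R (i ∘ φ) * g := by
    rw [prodX, prodX, ← Finset.prod_sdiff (Finset.subset_univ (Finset.univ.image φ)),
      Finset.prod_image (fun a _ b _ hab => hφ hab), mul_comm]
    rfl
  rw [toSec_awayMap i (i ∘ φ) g hg hx h, secHom_toSec, secHom_toSec]
  exact congrArg (toW n R) (RingHom.congr_fun
    (awayEval_awayMap (theta n R).toRingHom hg hx (isUnit_theta_prodX i)) z)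

/-- The section `∏ X_b / X_j` over a chart. -/
lemma exists_basicOpen_le {p : ℕ} (i : Fin (p + 1) → Idx.{u} n) (j : Idx.{u} n) :
    ∃ g : Γ(ProjSpace n R, inter (cov n R) ![j]),
      secHom R ![j] g = Finsupp.single (mk 0 (tupExp i - (p + 1) • unitVec n j.down)) 1 ∧
      (ProjSpace n R).basicOpen g ≤ inter (cov n R) i := by
  have hone : ∀ b : Idx.{u} n, ∃ t : Γ(ProjSpace n R, inter (cov n R) ![j]),
      secHom R ![j] t = Finsupp.single (mk 0 (unitVec n b.down - unitVec n j.down)) 1 ∧
      (ProjSpace n R).basicOpen t ≤ cov n R b := by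
    intro b
    have hf : prodX R ![j] ∈ polyGrading n R 1 := prodX_mem (p := 0) ![j]
    let w : NumDenSameDeg (polyGrading n R) (Submonoid.powers (prodX R ![j])) :=
      ⟨1, ⟨X b.down, X_mem _⟩, ⟨prodX R ![j], hf⟩, ⟨1, pow_one _⟩⟩
    let z : Away (polyGrading n R) (prodX R ![j]) := HomogeneousLocalization.mk w
    refine ⟨toSec ![j] z, ?_, ?_⟩
    · have hz : z = Away.mk (polyGrading n R) (prodX_mem (p := 0) ![j]) 1 (X b.down) (by
          simpa using X_mem b.down) := by
        apply HomogeneousLocalization.val_injective
        rw [Away.val_mk]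
        simp only [z, w, HomogeneousLocalization.val_mk, pow_one]
      rw [secHom_toSec, hz, eps_mk, show theta n R (X b.down) = AddMonoidAlgebra.single (unitVec n b.down) 1
        from aeval_X _ _, AddMonoidAlgebra.single_mul_single, mul_one, toW_single, one_smul]
      congr 2
      rw [sub_eq_add_neg]
      congr 2
      simp [tupExp]
    · intro x hx
      have hxj : x ∈ Proj.basicOpen (polyGrading n R) (prodX R ![j]) := by
        have h := (ProjSpace n R).basicOpen_le _ hx
        rw [basicOpen_prodX] at h
        exact h
      have hx' : x ∈ (Proj (polyGrading n R)).basicOpen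
          ((Proj.awayToSection (polyGrading n R) (prodX R ![j])).hom z) := by
        have h := Scheme.basicOpen_res (X := ProjSpace n R)
          ((Proj.awayToSection (polyGrading n R) (prodX R ![j])).hom z)
          (homOfLE (basicOpen_prodX (R := R) ![j]).le).op
        exact (h.le hx).2
      have h2 : (⟨x, hxj⟩ : Proj.basicOpen (polyGrading n R) (prodX R ![j])) ∈
          (Proj.basicOpen (polyGrading n R) (prodX R ![j])).toSpecΓ ⁻¹ᵁ
            PrimeSpectrum.basicOpen ((Proj.awayToSection (polyGrading n R) (prodX R ![j])).hom z) := by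
        rw [Scheme.Opens.toSpecΓ_preimage_basicOpen]
        exact hx'
      have h3 : (⟨x, hxj⟩ : Proj.basicOpen (polyGrading n R) (prodX R ![j])) ∈
          Proj.basicOpenToSpec (polyGrading n R) (prodX R ![j]) ⁻¹ᵁ PrimeSpectrum.basicOpen z := h2
      have h5 : Proj.basicOpenToSpec (polyGrading n R) (prodX R ![j]) ⁻¹ᵁ PrimeSpectrum.basicOpen z =
          (Proj.basicOpen (polyGrading n R) (prodX R ![j])).ι ⁻¹ᵁ
            Proj.basicOpen (polyGrading n R) (X b.down) := by
        rw [← Proj.basicOpenIsoSpec_hom _ _ hf one_pos]
        have e : z = Away.isLocalizationElem hf (X_mem b.down) := by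
          apply HomogeneousLocalization.val_injective
          simp only [z, w, Away.isLocalizationElem, HomogeneousLocalization.val_mk, Away.val_mk, pow_one]
        rw [e, ← Proj.awayι_preimage_basicOpen (polyGrading n R) hf one_pos (X_mem b.down) one_pos,
          ← Scheme.Hom.comp_preimage, Proj.awayι, Iso.hom_inv_id_assoc]
      rw [h5] at h3
      exact h3
  choose t ht hle using fun a => hone (i a)
  refine ⟨∏ a, t a, ?_, le_iInf fun a => le_trans ?_ (hle a)⟩
  · rw [secHom_eq, map_prod]
    have : ∀ a, secL R ![j] (t a) = AddMonoidAlgebra.single (unitVec n (i a).down - unitVec n j.down) 1 :=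
      fun a => (toW n R).injective (((secHom_eq _ _).symm.trans (ht a)).trans (toW_single _ _).symm)
    simp only [this]
    rw [show tupExp i - (p + 1) • unitVec n j.down = ∑ a, (unitVec n (i a).down - unitVec n j.down) by
      simp [tupExp, Finset.sum_sub_distrib], ← toW_single]
    congr 1
    induction (Finset.univ : Finset (Fin (p + 1))) using Finset.cons_induction with
    | empty => rfl
    | cons a s ha ih =>
      rw [Finset.prod_cons, Finset.sum_cons, ih, AddMonoidAlgebra.single_mul_single, one_mul]
  · rw [← Finset.mul_prod_erase Finset.univ t (Finset.mem_univ a), Scheme.basicOpen_mul]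
    exact inf_le_left

end Groth.Agent.ProjFinite
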