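import Groth.Agent.CechSys.Monomial
import Groth.Agent.CechLinear.Basic
import Groth.Agent.ProjCoord.Basic
import Groth.Agent.TensorMod.Invertible
import Mathlib.Algebra.MonoidAlgebra.Basic

/-!
# Sections of projective space on intersections of standard charts as Laurent polynomials
-/

noncomputable section

universe u

open CategoryTheory AlgebraicGeometry MvPolynomial Opposite CohB1 HomogeneousLocalization
open Groth.Agent.QCohBase Groth.Agent.ProjCoord Groth.Agent.CechSys

namespace Groth.Agent.ProjFinite

variable (n : ℕ) (R : Type u) [CommRing R]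

/-- Laurent polynomials. -/
abbrev Lau : Type u := AddMonoidAlgebra R (Expo n)

/-- The exponent of a variable. -/
def unitVec (j : Fin (n + 1)) : Expo n := Pi.single j 1

/-- Polynomials as Laurent polynomials. -/
def theta : MvPolynomial (Fin (n + 1)) R →ₐ[R] Lau n R :=
  aeval fun j => AddMonoidAlgebra.single (unitVec n j) 1

/-- The standard cover. -/
def cov (j : Idx.{u} n) : (ProjSpace n R).Opens :=
  Proj.basicOpen (polyGrading n R) (X j.down)

variable {n R}

lemma theta_monomial (m : Fin (n + 1) →₀ ℕ) (z : R) :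
    theta n R (monomial m z) = AddMonoidAlgebra.single (castExp m) z := by
  induction m using Finsupp.induction generalizing z with
  | zero =>
    rw [← MvPolynomial.C_apply, theta, aeval_C]
    have : (castExp (0 : Fin (n + 1) →₀ ℕ) : Expo n) = 0 := by funext j; simp [castExp]
    rw [this]
    rfl
  | single_add j k m hj hk ih =>
    rw [add_comm (Finsupp.single j k) m, MvPolynomial.monomial_add_single, map_mul, map_pow, ih,
      show theta n R (X j) = AddMonoidAlgebra.single (unitVec n j) 1 from aeval_X _ _,
      AddMonoidAlgebra.single_pow, AddMonoidAlgebra.single_mul_single, one_pow, mul_one]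
    congr 1
    funext i
    rcases eq_or_ne i j with rfl | h
    · simp [castExp, unitVec]
    · simp [castExp, unitVec, h]

lemma castExp_injective : Function.Injective (castExp : (Fin (n + 1) →₀ ℕ) → Expo n) :=
  fun a b h => Finsupp.ext fun j => Int.natCast_inj.1 (congrFun h j)

lemma coeff_theta (a : MvPolynomial (Fin (n + 1)) R) :
    (theta n R a).coeff = Finsupp.mapDomain castExp
      (∑ m ∈ a.support, Finsupp.single m (a.coeff m)) := by
  conv_lhs => rw [a.as_sum, map_sum]
  rw [Finsupp.mapDomain_finset_sum]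
  simp only [theta_monomial, Finsupp.mapDomain_single]
  exact map_sum (AddMonoidAlgebra.coeffLinearEquiv R : Lau n R ≃ₗ[R] _) _ _

lemma theta_injective : Function.Injective (theta n R) := by
  rw [injective_iff_map_eq_zero]
  intro a ha
  have h := coeff_theta a
  rw [ha] at h
  replace h := Finsupp.mapDomain_injective castExp_injective (h.symm.trans Finsupp.mapDomain_zero.symm)
  ext m
  have hm := DFunLike.congr_fun h m
  rw [Finsupp.finsetSum_apply] at hm
  by_cases hs : m ∈ a.support
  · rw [Finset.sum_eq_single m (fun b _ hb => Finsupp.single_eq_of_ne hb.symm)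
      (fun h => absurd hs h), Finsupp.single_eq_same] at hm
    simpa using hm
  · simpa using MvPolynomial.notMem_support_iff.1 hs

section tuple

variable {p : ℕ} (i : Fin (p + 1) → Idx.{u} n)

variable (R) in
/-- The product of the variables of a tuple. -/
def prodX : MvPolynomial (Fin (n + 1)) R := ∏ a, X (i a).down

/-- The exponent of a tuple. -/
def tupExp : Expo n := ∑ a, unitVec n (i a).down

lemma prodX_mem : prodX R i ∈ polyGrading n R (p + 1) := by
  have := SetLike.prod_mem_graded (A := polyGrading n R) (F := Finset.univ) (fun _ => 1)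
    (fun a => (X (i a).down : MvPolynomial (Fin (n + 1)) R)) fun a _ => X_mem (i a).down
  simpa [prodX] using this

lemma theta_prodX : theta n R (prodX R i) = AddMonoidAlgebra.single (tupExp i) 1 := by
  rw [prodX, map_prod]
  simp only [theta, aeval_X]
  rw [tupExp]
  induction (Finset.univ : Finset (Fin (p + 1))) using Finset.cons_induction with
  | empty => rfl
  | cons a s ha ih =>
    rw [Finset.prod_cons, Finset.sum_cons, ih, AddMonoidAlgebra.single_mul_single, one_mul]

lemma tupExp_apply_pos {j : Idx.{u} n} (hj : j ∈ Set.range i) : 1 ≤ tupExp i j.down := by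
  obtain ⟨a, rfl⟩ := hj
  rw [tupExp, Finset.sum_apply]
  refine le_trans ?_ (Finset.single_le_sum (f := fun b => unitVec n (i b).down (i a).down)
    (fun b _ => ?_) (Finset.mem_univ a))
  · simp [unitVec]
  · rcases eq_or_ne (i a).down (i b).down with h | h
    · simp [unitVec, h]
    · simp [unitVec, h]

lemma tupExp_apply_zero {j : Idx.{u} n} (hj : j ∉ Set.range i) : tupExp i j.down = 0 := by
  rw [tupExp, Finset.sum_apply]
  refine Finset.sum_eq_zero fun b _ => Pi.single_eq_of_ne (fun h => hj ⟨b, ?_⟩) _
  exact ULift.ext _ _ h.symm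

lemma sum_tupExp : ∑ j, tupExp i j = p + 1 := by
  simp only [tupExp, Finset.sum_apply]
  rw [Finset.sum_comm]
  simp [unitVec]

lemma isUnit_theta_prodX : IsUnit (theta n R (prodX R i)) := by
  rw [theta_prodX]
  exact IsUnit.of_mul_eq_one (AddMonoidAlgebra.single (-tupExp i) 1)
    (by rw [AddMonoidAlgebra.single_mul_single, add_neg_cancel, one_mul]; rfl)

variable (R) in
/-- The degree zero localisation inside Laurent polynomials. -/
def eps : Away (polyGrading n R) (prodX R i) →+* Lau n R :=
  awayEval (theta n R).toRingHom (isUnit_theta_prodX i)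

lemma eps_mk (k : ℕ) (a : MvPolynomial (Fin (n + 1)) R) (ha : a ∈ polyGrading n R (k • (p + 1))) :
    eps R i (Away.mk _ (prodX_mem i) k a ha) =
      theta n R a * AddMonoidAlgebra.single (-(k • tupExp i)) 1 := by
  have h := awayEval_mk (theta n R).toRingHom (isUnit_theta_prodX (R := R) i) (prodX_mem i) k a ha
  change eps R i _ * theta n R (prodX R i) ^ k = theta n R a at h
  rw [← h, theta_prodX, AddMonoidAlgebra.single_pow, one_pow, mul_assoc,
    AddMonoidAlgebra.single_mul_single, add_neg_cancel, one_mul]
  exact (mul_one _).symm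

lemma eps_injective : Function.Injective (eps R i) := by
  rw [injective_iff_map_eq_zero]
  intro z hz
  obtain ⟨k, a, ha, rfl⟩ := Away.mk_surjective _ (prodX_mem i) z
  have h := awayEval_mk (theta n R).toRingHom (isUnit_theta_prodX (R := R) i) (prodX_mem i) k a ha
  change eps R i _ * _ = _ at h
  rw [hz, zero_mul] at h
  obtain rfl : a = 0 := theta_injective (h.symm.trans (map_zero (theta n R)).symm)
  apply HomogeneousLocalization.val_injective
  rw [Away.val_mk, HomogeneousLocalization.val_zero, Localization.mk_zero]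

variable (R) in
/-- Constants in a chart. -/
def constR : R →+* Away (polyGrading n R) (prodX R i) :=
  (fromZeroRingHom (polyGrading n R) _).comp (algebraMap R (polyGrading n R 0))

lemma eps_constR (r : R) : eps R i (constR R i r) = AddMonoidAlgebra.single 0 r := by
  have h := awayEval_val (theta n R).toRingHom (isUnit_theta_prodX (R := R) i) (constR R i r) 0 (C r)
    (by simp [constR, fromZeroRingHom, ← Localization.mk_one_eq_algebraMap, Localization.mk_one]; rfl)
  rw [pow_zero, mul_one] at h
  exact h.trans (aeval_C _ r)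

variable (n R) in
/-- Laurent polynomials as monomial combinations. -/
def toW : Lau n R ≃ₗ[R] LW R n 1 :=
  (AddMonoidAlgebra.coeffLinearEquiv R).trans
    (Finsupp.domLCongr ((Equiv.uniqueProd (Expo n) (Fin 1)).symm.trans Equiv.ulift.symm))

lemma toW_single (a : Expo n) (z : R) :
    toW n R (AddMonoidAlgebra.single a z) = Finsupp.single (mk 0 a : Mon.{u} n 1) z := by
  simp [toW, Equiv.uniqueProd]

lemma mem_range_eps {v : Lau n R} :
    v ∈ Set.range (eps R i) ↔ toW n R v ∈ Free R (fun _ => 0) 0 (Set.range i) := by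
  constructor
  · rintro ⟨z, rfl⟩
    obtain ⟨k, a, ha, rfl⟩ := Away.mk_surjective _ (prodX_mem i) z
    rw [eps_mk, a.as_sum, map_sum, Finset.sum_mul, map_sum]
    refine Submodule.sum_mem _ fun m hm => ?_
    rw [theta_monomial, AddMonoidAlgebra.single_mul_single, toW_single]
    refine Finsupp.single_mem_supported R _ ⟨fun j hj => ?_, ?_⟩
    · by_contra hji
      simp only [CechSys.neg, Set.mem_setOf_eq, Pi.add_apply, Pi.neg_apply, Pi.smul_apply,
        tupExp_apply_zero i hji, smul_zero, neg_zero, add_zero, castExp] at hj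
      omega
    · have hdeg : m.sum (fun _ e => e) = k • (p + 1) := by
        have := ha (MvPolynomial.mem_support_iff.1 hm)
        simpa [Finsupp.weight_apply] using this
      rw [Finsupp.sum_fintype _ _ (fun _ => rfl)] at hdeg
      simp only [CechSys.deg, Pi.add_apply, Pi.neg_apply, Pi.smul_apply, Finset.sum_add_distrib,
        Finset.sum_neg_distrib, ← Finset.smul_sum, sum_tupExp, castExp, add_zero]
      rw [← Nat.cast_sum, hdeg]
      simp only [smul_eq_mul, nsmul_eq_mul]
      push_cast
      ring
  · intro hv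
    classical
    suffices h : ∀ w ∈ Free R (fun _ => 0) 0 (Set.range i), (toW n R).symm w ∈ (eps R i).range by
      simpa using h _ hv
    intro w hw
    rw [← Finsupp.sum_single w, Finsupp.sum, map_sum]
    refine sum_mem fun x hx => ?_
    obtain ⟨⟨k0, c⟩⟩ := x
    obtain rfl : k0 = 0 := Subsingleton.elim _ _
    obtain ⟨hneg, hsum⟩ := mem_Free.1 hw _ hx
    rw [show (toW n R).symm (Finsupp.single (mk 0 c) (w (mk 0 c))) =
      AddMonoidAlgebra.single c (w (mk 0 c)) from (LinearEquiv.symm_apply_eq _).2 (toW_single _ _).symm]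
    let k : ℕ := ∑ j, (-c j).toNat
    have hpos : ∀ j, 0 ≤ c j + (k : ℤ) * tupExp i j := fun j => by
      by_cases hj : (⟨j⟩ : Idx.{u} n) ∈ Set.range i
      · have h1 := tupExp_apply_pos i hj
        have h2 : (-c j).toNat ≤ k :=
          Finset.single_le_sum (f := fun j => (-c j).toNat) (fun _ _ => Nat.zero_le _) (Finset.mem_univ j)
        have h3 : (k : ℤ) * 1 ≤ k * tupExp i j := mul_le_mul_of_nonneg_left h1 (Int.natCast_nonneg k)
        omega
      · have h1 : ¬ c j < 0 := fun h => hj (hneg (show (⟨j⟩ : Idx.{u} n) ∈ CechSys.neg c from h))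
        rw [tupExp_apply_zero i hj]
        omega
    let m : Fin (n + 1) →₀ ℕ :=
      Finsupp.equivFunOnFinite.symm fun j => (c j + (k : ℤ) * tupExp i j).toNat
    have hm : (castExp m : Expo n) = c + k • tupExp i := funext fun j => by
      simp [m, castExp, hpos j]
    have hmd : m.sum (fun _ e => e) = k • (p + 1) := by
      rw [Finsupp.sum_fintype _ _ (fun _ => rfl)]
      have : ((∑ j, m j : ℕ) : ℤ) = (k • (p + 1) : ℕ) := by
        push_cast
        rw [show (∑ j, (m j : ℤ)) = ∑ j, (castExp m : Expo n) j from rfl, hm]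
        simp only [CechSys.deg, add_zero] at hsum
        simp [Finset.sum_add_distrib, hsum, ← Finset.mul_sum, sum_tupExp]
      exact_mod_cast this
    have hmem : monomial m (w (mk 0 c)) ∈ polyGrading n R (k • (p + 1)) :=
      isHomogeneous_monomial _ (by rwa [Finsupp.degree_apply])
    refine ⟨Away.mk _ (prodX_mem i) k _ hmem, ?_⟩
    rw [eps_mk, theta_monomial, AddMonoidAlgebra.single_mul_single, mul_one, hm, add_neg_cancel_right]

lemma basicOpen_prodX : inter (cov n R) i = Proj.basicOpen (polyGrading n R) (prodX R i) := by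
  refine TopologicalSpace.Opens.ext (Set.ext fun x => ?_)
  rw [SetLike.mem_coe, mem_inter_iff, SetLike.mem_coe]
  show (∀ a, (X (i a).down : MvPolynomial (Fin (n + 1)) R) ∉
      (show ↥(Proj (polyGrading n R)) from x).asHomogeneousIdeal.toIdeal) ↔
    ¬ (∏ a, X (i a).down ∈ (show ↥(Proj (polyGrading n R)) from x).asHomogeneousIdeal.toIdeal)
  rw [(show ↥(Proj (polyGrading n R)) from x).isPrime.prod_mem_iff]
  simp

lemma isAffineOpen_inter : IsAffineOpen (inter (cov n R) i) := by
  rw [basicOpen_prodX]
  exact Proj.isAffineOpen_basicOpen _ _ (prodX_mem i) (Nat.succ_pos p)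

/-- The degree zero localisation as sections. -/
def toSec : Away (polyGrading n R) (prodX R i) →+* Γ(ProjSpace n R, inter (cov n R) i) :=
  ((ProjSpace n R).presheaf.map (homOfLE (basicOpen_prodX (R := R) i).le).op).hom.comp
    (Proj.awayToSection (polyGrading n R) (prodX R i)).hom

lemma bijective_map_of_eq {Y : Scheme.{u}} {V W : Y.Opens} (h : V = W) :
    Function.Bijective (Y.presheaf.map (homOfLE h.le).op).hom := by
  subst h
  rw [show (homOfLE (le_refl V)).op = 𝟙 (op V) from rfl, Y.presheaf.map_id]
  exact Function.bijective_id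

lemma toSec_bijective : Function.Bijective (toSec (R := R) i) := by
  have h : IsIso (Proj.awayToSection (polyGrading n R) (prodX R i)) := by
    rw [← Proj.basicOpenIsoAway_hom _ _ (prodX_mem i) (Nat.succ_pos p)]
    infer_instance
  exact (bijective_map_of_eq (basicOpen_prodX (R := R) i)).comp (ConcreteCategory.bijective_of_isIso _)

end tuple

lemma res_appTop {Y : Scheme.{u}} (V : Y.Opens) {A : Type u} [CommRing A]
    (f : Y ⟶ Spec (CommRingCat.of A)) (ψ : CommRingCat.of A ⟶ Γ(Y, V))
    (h : V.ι ≫ f = V.toSpecΓ ≫ Spec.map ψ) (r : A) :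
    (Y.presheaf.map (homOfLE (le_top : V ≤ ⊤)).op).hom (f.appTop ((Scheme.ΓSpecIso _).inv r)) = ψ r := by
  have h1 := congrArg (fun g => g.appTop ≫ V.topIso.hom) h
  simp only [Scheme.Hom.comp_appTop, Category.assoc, Scheme.Opens.toSpecΓ_appTop, Iso.inv_hom_id,
    Category.comp_id, Scheme.Opens.ι_appTop] at h1
  have h2 : (Scheme.ΓSpecIso (CommRingCat.of A)).inv ≫ f.appTop ≫ Y.presheaf.map (homOfLE le_top).op = ψ := by
    have e : Y.presheaf.map (homOfLE (le_top : V ≤ ⊤)).op =
        Y.presheaf.map (homOfLE (le_top : V.ι ''ᵁ ⊤ ≤ ⊤)).op ≫ V.topIso.hom :=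
      ((congrArg Y.presheaf.map (Subsingleton.elim _ _)).trans (Y.presheaf.map_comp _ _))
    rw [e]
    erw [h1]
    rw [← Category.assoc, ← Scheme.ΓSpecIso_inv_naturality, Category.assoc, Iso.inv_hom_id,
      Category.comp_id]
  exact ConcreteCategory.congr_hom h2 r

section sec

variable (R) {p : ℕ} (i : Fin (p + 1) → Idx.{u} n)

/-- Sections as monomial combinations. -/
def secHom : Γ(ProjSpace n R, inter (cov n R) i) →+ LW R n 1 :=
  (toW n R).toLinearMap.toAddMonoidHom.comp
    ((eps R i).toAddMonoidHom.comp (RingEquiv.ofBijective (toSec (R := R) i) (toSec_bijective i)).symm.toAddMonoidHom)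

variable {R}

lemma secHom_toSec (z : Away (polyGrading n R) (prodX R i)) :
    secHom R i (toSec i z) = toW n R (eps R i z) := by
  show toW n R (eps R i ((RingEquiv.ofBijective (toSec (R := R) i) (toSec_bijective i)).symm (toSec i z))) = _
  rw [show (RingEquiv.ofBijective (toSec (R := R) i) (toSec_bijective i)).symm (toSec i z) = z from
    RingEquiv.symm_apply_apply (RingEquiv.ofBijective (toSec (R := R) i) (toSec_bijective i)) z]

lemma secHom_injective : Function.Injective (secHom R i) :=
  (toW n R).injective.comp ((eps_injective i).comp (RingEquiv.injective _))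

lemma mem_range_secHom {w : LW R n 1} :
    w ∈ Set.range (secHom R i) ↔ w ∈ Free R (fun _ => 0) 0 (Set.range i) := by
  rw [show w = toW n R ((toW n R).symm w) from ((toW n R).apply_symm_apply w).symm,
    ← mem_range_eps]
  constructor
  · rintro ⟨s, hs⟩
    obtain ⟨z, rfl⟩ := (toSec_bijective i).2 s
    exact ⟨z, (toW n R).injective (by rw [← secHom_toSec, hs])⟩
  · rintro ⟨z, hz⟩
    exact ⟨toSec i z, by rw [secHom_toSec, hz]⟩

lemma secHom_mem (s : Γ(ProjSpace n R, inter (cov n R) i)) :
    secHom R i s ∈ Free R (fun _ => 0) 0 (Set.range i) := (mem_range_secHom i).1 ⟨s, rfl⟩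

lemma toSec_awayMap {q : ℕ} (i' : Fin (q + 1) → Idx.{u} n) (g : MvPolynomial (Fin (n + 1)) R) {e : ℕ}
    (hg : g ∈ polyGrading n R e) (hx : prodX R i = prodX R i' * g)
    (h : inter (cov n R) i ≤ inter (cov n R) i') (z : Away (polyGrading n R) (prodX R i')) :
    ((ProjSpace n R).presheaf.map (homOfLE h).op).hom (toSec i' z) =
      toSec i (awayMap (polyGrading n R) hg hx z) := by
  have h1 := ConcreteCategory.congr_hom
    (Proj.awayMap_awayToSection (polyGrading n R) hg hx (f := prodX R i')) z
  simp only [ConcreteCategory.comp_apply, CommRingCat.hom_ofHom] at h1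
  show _ = ((ProjSpace n R).presheaf.map _).hom ((Proj.awayToSection (polyGrading n R) (prodX R i)).hom _)
  erw [h1]
  show ((ProjSpace n R).presheaf.map _).hom (((ProjSpace n R).presheaf.map _).hom _) =
    ((ProjSpace n R).presheaf.map _).hom (((ProjSpace n R).presheaf.map _).hom _)
  rw [← CommRingCat.comp_apply, ← CommRingCat.comp_apply, ← Functor.map_comp, ← Functor.map_comp]
  rfl

lemma secHom_res (i : Fin (p + 2) → Idx.{u} n) (k : Fin (p + 2))
    (h : inter (cov n R) i ≤ inter (cov n R) (i ∘ k.succAbove))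
    (s : Γ(ProjSpace n R, inter (cov n R) (i ∘ k.succAbove))) :
    secHom R i (((ProjSpace n R).presheaf.map (homOfLE h).op).hom s) =
      secHom R (i ∘ k.succAbove) s := by
  obtain ⟨z, rfl⟩ := (toSec_bijective (i ∘ k.succAbove)).2 s
  have hx : prodX R i = prodX R (i ∘ k.succAbove) * X (i k).down := by
    rw [prodX, Fin.prod_univ_succAbove _ k, mul_comm]
    rfl
  rw [toSec_awayMap i (i ∘ k.succAbove) _ (X_mem _) hx h, secHom_toSec, secHom_toSec]
  exact congrArg (toW n R) (RingHom.congr_fun
    (awayEval_awayMap (theta n R).toRingHom (X_mem (i k).down) hx (isUnit_theta_prodX i)) z)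

lemma res_toGlobal (r : R) (h : inter (cov n R) i ≤ ⊤) :
    ((ProjSpace n R).presheaf.map (homOfLE h).op).hom
      (Coh.toGlobal (ProjSpace n R ↘ Spec (CommRingCat.of R)) r) = toSec i (constR R i r) := by
  have h1 : (Proj.basicOpen (polyGrading n R) (prodX R i)).ι ≫ baseMap n R =
      (Proj.basicOpen (polyGrading n R) (prodX R i)).toSpecΓ ≫
        Spec.map (CommRingCat.ofHom (constR R i) ≫ Proj.awayToSection (polyGrading n R) (prodX R i)) := by
    rw [Spec.map_comp, ← Category.assoc (Scheme.Opens.toSpecΓ _),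
      show (Proj.basicOpen (polyGrading n R) (prodX R i)).toSpecΓ ≫
        Spec.map (Proj.awayToSection (polyGrading n R) (prodX R i)) =
          Proj.basicOpenToSpec (polyGrading n R) (prodX R i) from rfl,
      ← Proj.basicOpenIsoSpec_hom _ _ (prodX_mem i) (Nat.succ_pos p)]
    refine (Iso.inv_comp_eq _).1 ?_
    have h2 := Proj.awayι_toSpecZero_assoc (polyGrading n R) (prodX R i) (prodX_mem i) (Nat.succ_pos p)
      (Spec.map (CommRingCat.ofHom (algebraMap R (polyGrading n R 0))))
    rw [Proj.awayι, Category.assoc] at h2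
    rw [h2, ← Spec.map_comp]
    rfl
  have h2 := res_appTop _ (baseMap n R) _ h1 r
  show ((ProjSpace n R).presheaf.map _).hom _ = ((ProjSpace n R).presheaf.map _).hom _
  refine Eq.trans ?_ (congrArg ((ProjSpace n R).presheaf.map (homOfLE (basicOpen_prodX (R := R) i).le).op).hom h2)
  show _ = ((ProjSpace n R).presheaf.map _).hom (((ProjSpace n R).presheaf.map _).hom _)
  rw [← CommRingCat.comp_apply, ← Functor.map_comp]
  rfl

end sec

section cochains

variable {p : ℕ}

variable (n R) in
/-- The abelian presheaf of the structure sheaf. -/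
abbrev strPre : TopCat.Presheaf AddCommGrpCat.{u} (ProjSpace n R).toTopCat :=
  (Coh.toAb (Coh.structureModule (ProjSpace n R))).obj

variable (n R) in
/-- Cochains as monomial combinations. -/
def secCoch (p : ℕ) : cochain (cov n R) (strPre n R) (Fin (p + 1)) →+ Coch (Idx.{u} n) (LW R n 1) p where
  toFun s i := secHom R i (s i)
  map_zero' := funext fun i => map_zero (secHom R i)
  map_add' s t := funext fun i => map_add (secHom R i) (s i) (t i)

lemma secCoch_injective : Function.Injective (secCoch n R p) := fun _ _ h =>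
  funext fun i => secHom_injective i (congrFun h i)

lemma secCoch_mem (s : cochain (cov n R) (strPre n R) (Fin (p + 1))) :
    secCoch n R p s ∈ C (Free R (fun _ : Fin 1 => 0) 0) p := mem_C.2 fun i => secHom_mem i (s i)

lemma exists_secCoch_eq {t : Coch (Idx.{u} n) (LW R n 1) p}
    (ht : t ∈ C (Free R (fun _ : Fin 1 => 0) 0) p) : ∃ s, secCoch n R p s = t := by
  choose s hs using fun i => (mem_range_secHom i).2 (mem_C.1 ht i)
  exact ⟨s, funext hs⟩

lemma secCoch_dCech (s : cochain (cov n R) (strPre n R) (Fin (p + 1))) :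
    secCoch n R (p + 1) (dCech (cov n R) (strPre n R) p s) = dd R (Idx.{u} n) (LW R n 1) p (secCoch n R p s) := by
  funext i
  rw [dd_apply]
  refine (map_sum (secHom R i) (fun k : Fin (p + 2) => (-1 : ℤ) ^ (k : ℕ) •
    res (strPre n R) (inter_comp_le (cov n R) i k.succAbove) (s (i ∘ k.succAbove))) Finset.univ).trans ?_
  refine Finset.sum_congr rfl fun k _ => (map_zsmul (secHom R i) _ _).trans ?_
  exact congrArg _ (secHom_res i k (inter_comp_le (cov n R) i k.succAbove) _)

lemma secCoch_smulCoch (r : R) (s : cochain (cov n R) (strPre n R) (Fin (p + 1))) :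
    secCoch n R p (CechLinear.smulCoch (cov n R) (Coh.structureModule (ProjSpace n R)) r s) =
      r • secCoch n R p s := by
  funext i
  show secHom R i (@HMul.hMul Γ(ProjSpace n R, inter (cov n R) i) Γ(ProjSpace n R, inter (cov n R) i)
      Γ(ProjSpace n R, inter (cov n R) i) _ (((ProjSpace n R).presheaf.map (homOfLE le_top).op).hom
      (Coh.toGlobal (ProjSpace n R ↘ Spec (CommRingCat.of R)) r)) (s i)) = r • secHom R i (s i)
  rw [res_toGlobal i r le_top]
  obtain ⟨z, hz⟩ := (toSec_bijective i).2 (s i)
  rw [← hz]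
  erw [← map_mul (toSec i)]
  rw [secHom_toSec, secHom_toSec, map_mul, eps_constR, ← map_smul]
  congr 1
  rw [Algebra.smul_def]
  rfl

lemma iSup_cov : ⨆ j, cov n R j = ⊤ :=
  Proj.iSup_basicOpen_eq_top (polyGrading n R) (fun j : Idx.{u} n => X j.down)
    (irrelevant_le_span_X.trans (Ideal.span_mono (by rintro _ ⟨i, rfl⟩; exact ⟨⟨i⟩, rfl⟩)))

/-- Higher cohomology of the structure sheaf of projective space vanishes. -/
theorem subsingleton_HH (q : ℕ) :
    Subsingleton (Coh.HH (ProjSpace n R) (Coh.structureModule (ProjSpace n R)) (q + 1)) := by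
  haveI : Coh.IsQCoh (Coh.structureModule (ProjSpace n R)) :=
    Groth.Agent.TensorMod.isQCoh_structureModule _
  refine CechLinear.subsingleton_HH_of_cech (cov n R) _ iSup_cov
    (fun _ i => isAffineOpen_inter i) q fun s hs => ?_
  have hZ : secCoch n R (q + 1) s ∈ Z (Free R (fun _ : Fin 1 => 0) 0) (q + 1) := by
    refine ⟨secCoch_mem s, ?_⟩
    show dd R _ _ (q + 1) (secCoch n R (q + 1) s) = 0
    rw [← secCoch_dCech, hs, map_zero]
  have h := exists_sub_mem_B hZ
  have h0 : (fun i => filterMap {x : Mon.{u} n 1 | ∀ j, x.down.2 j < 0} (secCoch n R (q + 1) s i)) = 0 := by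
    classical
    funext i
    ext x
    rw [filterMap_apply]
    split_ifs with hx
    · by_contra hne
      have h1 := (mem_Free.1 (mem_C.1 hZ.1 i) x (Finsupp.mem_support_iff.2 hne)).2
      have h2 : ∑ j, x.down.2 j < 0 := Finset.sum_neg (fun j _ => hx j) Finset.univ_nonempty
      simp only [CechSys.deg, add_zero] at h1
      omega
    · rfl
  have h' : secCoch n R (q + 1) s ∈ B (Free R (fun _ : Fin 1 => 0) 0) (q + 1) := by
    convert h using 1
    funext i
    simp only [congrFun h0 i, Pi.zero_apply, sub_zero]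
  obtain ⟨t, ht, hts⟩ := h'
  obtain ⟨u, rfl⟩ := exists_secCoch_eq ht
  exact ⟨u, secCoch_injective ((secCoch_dCech u).trans hts)⟩

lemma eq_of_secHom {s t : Γ(ProjSpace n R, ⊤)}
    (h : ∀ j : Idx.{u} n,
      secHom R ![j] (((ProjSpace n R).presheaf.map (homOfLE le_top).op).hom s) =
        secHom R ![j] (((ProjSpace n R).presheaf.map (homOfLE le_top).op).hom t)) : s = t := by
  refine (ProjSpace n R).sheaf.eq_of_locally_eq' (fun j => inter (cov n R) ![j]) ⊤
    (fun j => homOfLE le_top) ?_ s t fun j => secHom_injective ![j] (h j)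
  intro x _
  obtain ⟨j, hj⟩ := TopologicalSpace.Opens.mem_iSup.1
    ((iSup_cov (n := n) (R := R)).ge (Set.mem_univ x))
  exact TopologicalSpace.Opens.mem_iSup.2 ⟨j, (mem_inter_iff _ _ _).2 fun a => by fin_cases a; exact hj⟩

lemma res_strPre {V : (ProjSpace n R).Opens} (h : V ≤ ⊤) (s : Γ(ProjSpace n R, ⊤)) :
    res (strPre n R) h s = ((ProjSpace n R).presheaf.map (homOfLE h).op).hom s := rfl

/-- Global functions on projective space are the constants. -/
theorem bijective_toGlobal :
    Function.Bijective (Coh.toGlobal (ProjSpace n R ↘ Spec (CommRingCat.of R))) := by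
  classical
  let P := ProjSpace n R
  let f := Coh.toGlobal (P ↘ Spec (CommRingCat.of R))
  let tup : Idx.{u} n → Fin 1 → Idx.{u} n := fun j => ![j]
  have hres : ∀ r i, secHom R i ((P.presheaf.map (homOfLE (le_top : inter (cov n R) i ≤ ⊤)).op).hom (f r)) =
      (Finsupp.single (mk 0 0) r : LW R n 1) := fun r (i : Fin 1 → Idx.{u} n) => by
    rw [res_toGlobal i r le_top, secHom_toSec, eps_constR, toW_single]
  refine ⟨fun r r' h => ?_, fun s => ?_⟩
  · have := congrArg (fun x => secHom R (tup ⟨0⟩) ((P.presheaf.map (homOfLE le_top).op).hom x)) h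
    beta_reduce at this
    rw [hres, hres] at this
    simpa using DFunLike.congr_fun this (mk 0 0 : Mon.{u} n 1)
  · let c : cochain (cov n R) (strPre n R) (Fin 1) := fun i => res (strPre n R) le_top s
    have hc : dCech (cov n R) (strPre n R) 0 c = 0 := by
      funext i
      rw [dCech_zero_apply, res_res, res_res]
      exact sub_self _
    have hZ : secCoch n R 0 c ∈ Z (Free R (fun _ : Fin 1 => 0) 0) 0 := by
      refine ⟨secCoch_mem c, ?_⟩
      show dd R _ _ 0 (secCoch n R 0 c) = 0
      rw [← secCoch_dCech, hc, map_zero]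
    have hsupp : ∀ i : Fin 1 → Idx.{u} n, ∀ x ∈ (secCoch n R 0 c i).support, x = mk 0 0 := by
      intro i x hx
      have hd := (mem_Free.1 (mem_C.1 hZ.1 i) x hx).2
      simp only [CechSys.deg, add_zero] at hd
      obtain ⟨⟨k, a⟩⟩ := x
      obtain rfl : k = 0 := Subsingleton.elim _ _
      have ha : a = 0 := by
        rcases Nat.eq_zero_or_pos n with rfl | hn
        · funext j
          fin_cases j
          simpa using hd
        · have hpos := nonneg_of_mem_Z_zero hn hZ i (mk 0 a) hx
          funext j
          have := Finset.single_le_sum (f := a) (fun j _ => hpos j) (Finset.mem_univ j)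
          have := hpos j
          simp only [Pi.zero_apply] at *
          omega
      rw [ha]
    have hval : ∀ i : Fin 1 → Idx.{u} n,
        secCoch n R 0 c i = Finsupp.single (mk 0 0) (secCoch n R 0 c i (mk 0 0)) := fun i =>
      Finsupp.support_subset_singleton.1 fun x hx => Finset.mem_singleton.2 (hsupp i x hx)
    let r : R := secCoch n R 0 c (tup ⟨0⟩) (mk 0 0)
    refine ⟨r, ?_⟩
    refine eq_of_secHom fun j => (hres r ![j]).trans ?_
    rw [← res_strPre (le_top : inter (cov n R) ![j] ≤ ⊤) s]
    show _ = secCoch n R 0 c (tup j)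
    have h := congrFun hZ.2 ![⟨0⟩, j]
    rw [dd_zero_apply, Pi.zero_apply, sub_eq_zero] at h
    rw [show tup j = ![j] from rfl, h, hval ![(⟨0⟩ : Idx.{u} n)]]

end cochains

end Groth.Agent.ProjFinite
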